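import Cfsg.Agent.H384.KC.BZero

/-!
# Kac coordinates (S3509): moving the affinely positive roots into a half space (helper384)
-/

set_option autoImplicit false
set_option linter.unusedSectionVars false

namespace Cfsg.Agent.H384.KC

open CoxeterSystem Cfsg Cfsg.Lie Cfsg.Lie.ChevalleyDatum
open Cfsg.Agent.ChevalleyStructure Cfsg.Agent.ChevalleyStructure.Elts Cfsg.Agent.ChevalleyStructure.CoxeterGeom
  Cfsg.Agent.ChevalleyStructure.CoxeterGeomTypes Cfsg.Agent.ChevalleyStructure.NPerm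
open Cfsg.Agent.Tits.Roots Cfsg.Agent.Tits.Core Cfsg.Agent.Nodes Cfsg.Agent.Nodes.Reps Cfsg.Agent.Nodes.BNOf
  Cfsg.Agent.Nodes.RGDChev Cfsg.Agent.Nodes.Bruhat
open Cfsg.Agent.H129.TorusChar Cfsg.Agent.H129.WData Cfsg.Agent.H931.KC

variable {D : ChevalleyDatum} {l : ℕ} {M : CoxeterMatrix (Fin l)} (hp : IsType D l M)
  {n : ℕ} {c : Fin l → ℕ} {c0 : ℕ} (K : Kac D l n c c0)

include K in
/-- **Some `u ∈ WJ` moves the affinely positive roots into the half space `0 < f`.** -/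
theorem exists_std' {f : (Fin l → ℤ) →+ ℤ}
    (hf : ∀ a, IsRoot M.toCoxeterSystem hp.isCartan a → (n : ℤ) ∣ bb c a → f a ≠ 0) :
    ∃ u ∈ WJ hp c c0, ∀ a, AP hp n c a → 0 < f (rep M.toCoxeterSystem hp.isCartan u a) := by
  have hfin : Finite M.Group := finite_W hp M.toCoxeterSystem
  obtain ⟨⟨u, hu⟩, hmax⟩ := Finite.exists_max fun u : ↥(WJ hp c c0) => ∑ r ∈ SR D l n c,
    Lam D l n c (vec D l r) * f (rep M.toCoxeterSystem hp.isCartan u (vec D l r))
  have hst : Stab hp n c u := stab_WJ hp K hu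
  refine ⟨u, hu, fun a ha => ?_⟩
  refine pos_of_JS hp K ha (f.comp (rep M.toCoxeterSystem hp.isCartan u).toAddMonoidHom) fun β hβ => ?_
  show 0 < f (rep M.toCoxeterSystem hp.isCartan u β)
  have hAP := AP_JS hp K hβ
  obtain ⟨r, hrβ⟩ := exists_isRefl hp hAP.1
  obtain ⟨P, hP2, hP⟩ := refl_form hp hrβ
  have hstr := stab_refl hp hrβ hAP.dvd
  have hrW : r ∈ WJ hp c c0 := Subgroup.subset_closure ⟨β, hβ, hrβ⟩
  have h1 := hmax ⟨u * r, (WJ hp c c0).mul_mem hu hrW⟩
  set X := f (rep M.toCoxeterSystem hp.isCartan u β) with hX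
  set T := ∑ s ∈ SR D l n c, Lam D l n c (vec D l s) * P (vec D l s) with hT
  have e1 : (∑ s ∈ SR D l n c, Lam D l n c (vec D l s) *
      f (rep M.toCoxeterSystem hp.isCartan (u * r) (vec D l s))) =
      (∑ s ∈ SR D l n c, Lam D l n c (vec D l s) * f (rep M.toCoxeterSystem hp.isCartan u (vec D l s))) -
        X * T := by
    rw [hT, Finset.mul_sum, ← Finset.sum_sub_distrib]
    refine Finset.sum_congr rfl fun s _ => ?_
    rw [rep_mul_apply, hP, map_sub, map_zsmul, map_sub, map_zsmul, smul_eq_mul, ← hX]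
    ring
  have e2 : 2 * T = Lam D l n c β * ∑ s ∈ SR D l n c, P (vec D l s) ^ 2 := by
    have h2 := sum_SR hp hstr fun x => Lam D l n c x * P x
    have h3 : (∑ s ∈ SR D l n c, Lam D l n c (rep M.toCoxeterSystem hp.isCartan r (vec D l s)) *
        P (rep M.toCoxeterSystem hp.isCartan r (vec D l s))) =
        Lam D l n c β * (∑ s ∈ SR D l n c, P (vec D l s) ^ 2) - T := by
      rw [hT, Finset.mul_sum, ← Finset.sum_sub_distrib]
      refine Finset.sum_congr rfl fun s _ => ?_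
      rw [hP, map_sub, map_zsmul, map_sub, map_zsmul, hP2, smul_eq_mul, smul_eq_mul]
      ring
    have h4 : (∑ s ∈ SR D l n c, Lam D l n c (rep M.toCoxeterSystem hp.isCartan r (vec D l s)) *
        P (rep M.toCoxeterSystem hp.isCartan r (vec D l s))) = T := h2
    linarith
  have h5 : 0 < Lam D l n c β := (lam_pos_iff hp K hAP.1 hAP.dvd).1.2 hAP
  have h6 : 0 < ∑ s ∈ SR D l n c, P (vec D l s) ^ 2 := by
    obtain ⟨s, hs, e⟩ := (isRoot_iff hp M.toCoxeterSystem β).1 hAP.1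
    have hd := hAP.dvd
    rw [← e] at hd
    refine Finset.sum_pos' (fun i _ => sq_nonneg _) ⟨⟨s, hs⟩, mem_SR.2 hd, ?_⟩
    show 0 < P (vec D l s) ^ 2
    rw [e, hP2]
    norm_num
  have h7 : 0 < T := by
    have := mul_pos h5 h6
    omega
  have h8 : 0 ≤ X := by
    rw [e1] at h1
    have h9 : 0 ≤ X * T := by linarith
    by_contra hcon
    push Not at hcon
    have := mul_neg_of_neg_of_pos hcon h7
    omega
  have h9 := hf _ (hAP.1.act u) ((hst.dvd_iff hp β).2 hAP.dvd)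
  exact lt_of_le_of_ne h8 (Ne.symm h9)

end Cfsg.Agent.H384.KC
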