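import Cfsg.Agent.H931.KC.Alcove

/-!
# Kac coordinates (S3509): the stabiliser of a point of the alcove (helper384)

`K : Kac D l n c c0`, `b x = ∑ i, x i * c i`.

* `JS c c0 β` : `β` is a `J`-simple root: `sr i` with `c i = 0`, or `- hr` if `c0 = 0`;
* `AP n c a` : `a` is a root with `b a = 0` and `0 ≤ a`, or `b a = - n`;
* `WJ` : the subgroup generated by the reflections in the `J`-simple roots;
* `exists_std` : for `v` with `n ∣ b (rep v x) - b x` there is `u ∈ WJ` such that `rep (v * u)` maps `AP` into `AP`.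
-/

set_option autoImplicit false
set_option linter.unusedSectionVars false

namespace Cfsg.Agent.H384.KC

open CoxeterSystem Cfsg Cfsg.Lie Cfsg.Lie.ChevalleyDatum
open Cfsg.Agent.ChevalleyStructure Cfsg.Agent.ChevalleyStructure.Elts Cfsg.Agent.ChevalleyStructure.CoxeterGeom
  Cfsg.Agent.ChevalleyStructure.CoxeterGeomTypes Cfsg.Agent.ChevalleyStructure.NPerm
open Cfsg.Agent.Tits.Roots Cfsg.Agent.Tits.Core Cfsg.Agent.Nodes Cfsg.Agent.Nodes.Reps Cfsg.Agent.Nodes.BNOf
  Cfsg.Agent.Nodes.RGDChev Cfsg.Agent.Nodes.Bruhat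
open Cfsg.Agent.H129.TorusChar Cfsg.Agent.H129.WData Cfsg.Agent.H931.KC

variable {D : ChevalleyDatum} {l : ℕ} {M : CoxeterMatrix (Fin l)} (hp : IsType D l M)

/-- `J`-simple roots -/
def JS (D : ChevalleyDatum) (l : ℕ) (c : Fin l → ℕ) (c0 : ℕ) (β : Fin l → ℤ) : Prop :=
  (∃ i, β = sr i ∧ c i = 0) ∨ (β = -hr D l ∧ c0 = 0)

/-- the functional of the Kac coordinates -/
def bb {l : ℕ} (c : Fin l → ℕ) : (Fin l → ℤ) →+ ℤ := psi fun i => (c i : ℤ)

theorem bb_apply {l : ℕ} (c : Fin l → ℕ) (x : Fin l → ℤ) : bb c x = ∑ i, x i * (c i : ℤ) := rfl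

/-- affinely positive roots of `Φ_t` -/
def AP (hp : IsType D l M) (n : ℕ) (c : Fin l → ℕ) (a : Fin l → ℤ) : Prop :=
  IsRoot M.toCoxeterSystem hp.isCartan a ∧ ((bb c a = 0 ∧ 0 ≤ a) ∨ bb c a = -(n : ℤ))

/-- `r` is the reflection in the root `β` -/
def IsRefl (hp : IsType D l M) (r : M.Group) (β : Fin l → ℤ) : Prop :=
  ∃ (w : M.Group) (i : Fin l), β = rep M.toCoxeterSystem hp.isCartan w (sr i) ∧ r = w * M.toCoxeterSystem.simple i * w⁻¹

/-- the group generated by the reflections in the `J`-simple roots -/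
def WJ (hp : IsType D l M) (c : Fin l → ℕ) (c0 : ℕ) : Subgroup M.Group :=
  Subgroup.closure {r | ∃ β, JS D l c c0 β ∧ IsRefl hp r β}

/-- the height function separating the affinely positive roots -/
def Lam (D : ChevalleyDatum) (l : ℕ) (n : ℕ) (c : Fin l → ℕ) : (Fin l → ℤ) →+ ℤ :=
  (n : ℤ) • psi (fun _ : Fin l => (1 : ℤ)) - (1 + psi (fun _ : Fin l => (1 : ℤ)) (hr D l)) • bb c

theorem Lam_apply {n : ℕ} {c : Fin l → ℕ} (x : Fin l → ℤ) :
    Lam D l n c x = n * psi (fun _ : Fin l => (1 : ℤ)) x - (1 + psi (fun _ : Fin l => (1 : ℤ)) (hr D l)) * bb c x := rfl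

/-- the coordinate form of a reflection -/
theorem refl_form {r : M.Group} {β : Fin l → ℤ} (h : IsRefl hp r β) :
    ∃ P : (Fin l → ℤ) →+ ℤ, P β = 2 ∧ ∀ x, rep M.toCoxeterSystem hp.isCartan r x = x - P x • β := by
  obtain ⟨w, i, rfl, rfl⟩ := h
  have e0 : pairing (cartanOf D l) i (rep M.toCoxeterSystem hp.isCartan w⁻¹ 0) = 0 := by
    rw [map_zero]
    simp [pairing]
  have e1 : ∀ x y, pairing (cartanOf D l) i (rep M.toCoxeterSystem hp.isCartan w⁻¹ (x + y)) =
      pairing (cartanOf D l) i (rep M.toCoxeterSystem hp.isCartan w⁻¹ x) +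
        pairing (cartanOf D l) i (rep M.toCoxeterSystem hp.isCartan w⁻¹ y) := by
    intro x y
    rw [map_add, pairing_add]
  refine ⟨⟨⟨fun x => pairing (cartanOf D l) i (rep M.toCoxeterSystem hp.isCartan w⁻¹ x), e0⟩, e1⟩, ?_, ?_⟩
  · show pairing (cartanOf D l) i (rep M.toCoxeterSystem hp.isCartan w⁻¹ (rep M.toCoxeterSystem hp.isCartan w (sr i))) = 2
    rw [rep_inv_apply]
    have h1 := rep_simple_sr M.toCoxeterSystem hp.isCartan i
    rw [rep_simple_eq] at h1
    have h2 := congrFun h1 i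
    rw [Pi.sub_apply, Pi.smul_apply, Pi.neg_apply, sr_self, smul_eq_mul, mul_one] at h2
    omega
  · intro x
    rw [rep_mul_apply, rep_mul_apply, rep_simple_eq, map_sub, map_zsmul, rep_apply_inv]
    rfl

theorem exists_isRefl {β : Fin l → ℤ} (h : IsRoot M.toCoxeterSystem hp.isCartan β) : ∃ r, IsRefl hp r β := by
  obtain ⟨w, i, rfl⟩ := h
  exact ⟨w * M.toCoxeterSystem.simple i * w⁻¹, w, i, rfl, rfl⟩

theorem isRoot_JS {c : Fin l → ℕ} {c0 : ℕ} {β : Fin l → ℤ} (h : JS D l c c0 β) :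
    IsRoot M.toCoxeterSystem hp.isCartan β := by
  rcases h with ⟨i, rfl, -⟩ | ⟨rfl, -⟩
  · exact isRoot_sr _ _ i
  · obtain ⟨Bm, hv, v, C, H⟩ := exists_ok hp
    exact (isRoot_hr hp H).neg

variable {n : ℕ} {c : Fin l → ℕ} {c0 : ℕ} (K : Kac D l n c c0)

theorem ht_pos {a : Fin l → ℤ} (ha : IsRoot M.toCoxeterSystem hp.isCartan a) (h0 : 0 ≤ a) :
    1 ≤ psi (fun _ : Fin l => (1 : ℤ)) a := by
  have h1 : 0 ≤ psi (fun _ : Fin l => (1 : ℤ)) a := by
    rw [psi_apply]
    exact Finset.sum_nonneg fun i _ => by rw [mul_one]; exact h0 i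
  rcases h1.lt_or_eq with h | h
  · omega
  · exfalso
    rw [psi_apply] at h
    have h2 := (Finset.sum_eq_zero_iff_of_nonneg fun i _ => (by rw [mul_one]; exact h0 i : 0 ≤ a i * (1 : ℤ))).1 h.symm
    apply ha.ne_zero
    funext i
    have h3 := h2 i (Finset.mem_univ i)
    rwa [mul_one] at h3

theorem ht_le {a : Fin l → ℤ} (ha : IsRoot M.toCoxeterSystem hp.isCartan a) :
    psi (fun _ : Fin l => (1 : ℤ)) a ≤ psi (fun _ : Fin l => (1 : ℤ)) (hr D l) := by
  obtain ⟨Bm, hv, v, C, H⟩ := exists_ok hp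
  rw [psi_apply, psi_apply]
  exact Finset.sum_le_sum fun i _ => by rw [mul_one, mul_one]; exact le_hr hp H ha i

include K in
theorem bb_hr : bb c (hr D l) = n - c0 := by
  have h := K.sum
  rw [bb_apply]
  linarith

theorem bb_nonneg {a : Fin l → ℤ} (h0 : 0 ≤ a) : 0 ≤ bb c a := by
  rw [bb_apply]
  exact Finset.sum_nonneg fun i _ => mul_nonneg (h0 i) (by positivity)

include K in
theorem bb_le {a : Fin l → ℤ} (ha : IsRoot M.toCoxeterSystem hp.isCartan a) : bb c a ≤ n := by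
  obtain ⟨Bm, hv, v, C, H⟩ := exists_ok hp
  have h1 : bb c a ≤ bb c (hr D l) := by
    rw [bb_apply, bb_apply]
    exact Finset.sum_le_sum fun i _ => mul_le_mul_of_nonneg_right (le_hr hp H ha i) (by positivity)
  rw [bb_hr K] at h1
  have : (0 : ℤ) ≤ c0 := by positivity
  omega

include K in
/-- the three values of `b` on `Φ_t` -/
theorem bb_cases {a : Fin l → ℤ} (ha : IsRoot M.toCoxeterSystem hp.isCartan a) (hd : (n : ℤ) ∣ bb c a) :
    bb c a = 0 ∨ bb c a = n ∨ bb c a = -n := by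
  have h1 := bb_le hp K ha
  have h2 := bb_le hp K ha.neg
  rw [map_neg] at h2
  have hn : (0 : ℤ) < n := by exact_mod_cast K.pos
  obtain ⟨m, hm⟩ := hd
  have h3 : m ≤ 1 := by
    by_contra h
    have : (n : ℤ) * 2 ≤ n * m := mul_le_mul_of_nonneg_left (by omega) hn.le
    omega
  have h4 : -1 ≤ m := by
    by_contra h
    have : (n : ℤ) * m ≤ n * (-2) := mul_le_mul_of_nonneg_left (by omega) hn.le
    omega
  have h5 : m = 0 ∨ m = 1 ∨ m = -1 := by omega
  rcases h5 with rfl | rfl | rfl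
  · left; rw [hm, mul_zero]
  · right; left; rw [hm, mul_one]
  · right; right; rw [hm]; ring

include K in
theorem lam_pos_iff {a : Fin l → ℤ} (ha : IsRoot M.toCoxeterSystem hp.isCartan a) (hd : (n : ℤ) ∣ bb c a) :
    (0 < Lam D l n c a ↔ AP hp n c a) ∧ Lam D l n c a ≠ 0 := by
  have hn : (0 : ℤ) < n := by exact_mod_cast K.pos
  have h1 := ht_le hp ha
  have h2 := ht_le hp ha.neg
  rw [map_neg] at h2
  set T := psi (fun _ : Fin l => (1 : ℤ)) a with hT
  set hh := psi (fun _ : Fin l => (1 : ℤ)) (hr D l) with hhh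
  rcases bb_cases hp K ha hd with h | h | h
  · have e : Lam D l n c a = n * T := by rw [Lam_apply, h, mul_zero, sub_zero]
    rcases ha.pos_or_neg with h0 | h0
    · have h3 := ht_pos hp ha h0
      have h4 : 0 < (n : ℤ) * T := mul_pos hn (by omega)
      rw [e]
      exact ⟨⟨fun _ => ⟨ha, Or.inl ⟨h, h0⟩⟩, fun _ => h4⟩, h4.ne'⟩
    · have h3 := ht_pos hp ha.neg (neg_nonneg.2 h0)
      rw [map_neg] at h3
      have h4 : (n : ℤ) * T < 0 := mul_neg_of_pos_of_neg hn (by omega)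
      rw [e]
      refine ⟨⟨fun h5 => absurd h5 (by omega), ?_⟩, h4.ne⟩
      rintro ⟨-, ⟨-, h5⟩ | h5⟩
      · exact absurd h0 (ha.not_pos_neg h5)
      · omega
  · have e : Lam D l n c a = n * (T - (1 + hh)) := by rw [Lam_apply, h]; ring
    have h4 : (n : ℤ) * (T - (1 + hh)) < 0 := mul_neg_of_pos_of_neg hn (by omega)
    rw [e]
    refine ⟨⟨fun h5 => absurd h5 (by omega), ?_⟩, h4.ne⟩
    rintro ⟨-, ⟨h5, -⟩ | h5⟩ <;> omega
  · have e : Lam D l n c a = n * (T + (1 + hh)) := by rw [Lam_apply, h]; ring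
    have h4 : 0 < (n : ℤ) * (T + (1 + hh)) := mul_pos hn (by omega)
    rw [e]
    exact ⟨⟨fun _ => ⟨ha, Or.inr h⟩, fun _ => h4⟩, h4.ne'⟩

include K in
/-- the affinely positive roots are sums of `J`-simple roots -/
theorem pos_of_JS {a : Fin l → ℤ} (ha : AP hp n c a) (f : (Fin l → ℤ) →+ ℤ) (hf : ∀ β, JS D l c c0 β → 0 < f β) :
    0 < f a := by
  have hn : (0 : ℤ) < n := by exact_mod_cast K.pos
  obtain ⟨hr', h⟩ := ha
  -- non-negative combinations
  have key : ∀ k : Fin l → ℤ, (∀ i, 0 ≤ k i) → bb c k = 0 → 0 ≤ f k ∧ (k ≠ 0 → 0 < f k) := by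
    intro k hk hb
    have hc : ∀ i, k i ≠ 0 → c i = 0 := by
      intro i hi
      rw [bb_apply] at hb
      have h1 := (Finset.sum_eq_zero_iff_of_nonneg fun i _ =>
        (mul_nonneg (hk i) (by positivity) : 0 ≤ k i * (c i : ℤ))).1 hb i (Finset.mem_univ i)
      have h2 := (mul_eq_zero.1 h1).resolve_left hi
      exact_mod_cast h2
    have h3 : ∀ i, 0 ≤ k i * f (sr i) := by
      intro i
      by_cases hi : k i = 0
      · rw [hi, zero_mul]
      · exact mul_nonneg (hk i) (hf _ (Or.inl ⟨i, rfl, hc i hi⟩)).le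
    rw [eq_psi f k]
    refine ⟨Finset.sum_nonneg fun i _ => h3 i, fun hne => ?_⟩
    obtain ⟨i, hi⟩ : ∃ i, k i ≠ 0 := by
      by_contra hcon
      push Not at hcon
      exact hne (funext hcon)
    exact Finset.sum_pos' (fun i _ => h3 i) ⟨i, Finset.mem_univ i, mul_pos (lt_of_le_of_ne (hk i) (Ne.symm hi))
      (hf _ (Or.inl ⟨i, rfl, hc i hi⟩))⟩
  rcases h with ⟨h, h0⟩ | h
  · exact (key a h0 h).2 hr'.ne_zero
  · obtain ⟨Bm, hv, v, C, H⟩ := exists_ok hp
    have h1 : ∀ i, 0 ≤ (a + hr D l) i := by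
      intro i
      have := le_hr hp H hr'.neg i
      rw [Pi.neg_apply] at this
      rw [Pi.add_apply]
      omega
    have h2 : bb c (a + hr D l) = -(c0 : ℤ) := by
      rw [map_add, h, bb_hr K]
      ring
    have h3 : 0 ≤ bb c (a + hr D l) := bb_nonneg h1
    have h4 : c0 = 0 := by
      have : (0 : ℤ) ≤ c0 := by positivity
      omega
    have h5 := (key _ h1 (by rw [h2, h4]; simp)).1
    have h6 := hf _ (Or.inr ⟨rfl, h4⟩ : JS D l c c0 (-hr D l))
    rw [map_neg] at h6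
    rw [map_add] at h5
    omega

include K in
theorem AP_JS {β : Fin l → ℤ} (h : JS D l c c0 β) : AP hp n c β := by
  refine ⟨isRoot_JS hp h, ?_⟩
  rcases h with ⟨i, rfl, hi⟩ | ⟨rfl, h0⟩
  · left
    refine ⟨?_, sr_nonneg i⟩
    have h1 := psi_sr (fun i => (c i : ℤ)) i
    show psi (fun i => (c i : ℤ)) (sr i) = 0
    rw [h1, hi, Nat.cast_zero]
  · right
    rw [map_neg, bb_hr K, h0]
    simp

theorem AP.dvd {a : Fin l → ℤ} (h : AP hp n c a) : (n : ℤ) ∣ bb c a := by
  rcases h.2 with ⟨h, -⟩ | h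
  · rw [h]; exact dvd_zero _
  · rw [h]; exact (dvd_refl _).neg_right

/-- the elements preserving `b` modulo `n` -/
def Stab (hp : IsType D l M) (n : ℕ) (c : Fin l → ℕ) (w : M.Group) : Prop :=
  ∀ x, (n : ℤ) ∣ bb c (rep M.toCoxeterSystem hp.isCartan w x) - bb c x

theorem Stab.one : Stab hp n c 1 := by
  intro x
  rw [map_one, Module.End.one_apply, sub_self]
  exact dvd_zero _

theorem Stab.mul {v w : M.Group} (h1 : Stab hp n c v) (h2 : Stab hp n c w) : Stab hp n c (v * w) := by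
  intro x
  rw [rep_mul_apply]
  have := dvd_add (h1 (rep M.toCoxeterSystem hp.isCartan w x)) (h2 x)
  rwa [sub_add_sub_cancel] at this

theorem Stab.inv {v : M.Group} (h1 : Stab hp n c v) : Stab hp n c v⁻¹ := by
  intro x
  have := h1 (rep M.toCoxeterSystem hp.isCartan v⁻¹ x)
  rw [rep_apply_inv] at this
  rw [← neg_sub]
  exact this.neg_right

theorem Stab.dvd_iff {v : M.Group} (h1 : Stab hp n c v) (x : Fin l → ℤ) :
    (n : ℤ) ∣ bb c (rep M.toCoxeterSystem hp.isCartan v x) ↔ (n : ℤ) ∣ bb c x := by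
  constructor
  · intro h
    have := dvd_sub h (h1 x)
    rwa [sub_sub_cancel] at this
  · intro h
    have := dvd_add (h1 x) h
    rwa [sub_add_cancel] at this

theorem stab_refl {r : M.Group} {β : Fin l → ℤ} (h : IsRefl hp r β) (hβ : (n : ℤ) ∣ bb c β) : Stab hp n c r := by
  obtain ⟨P, -, hP⟩ := refl_form hp h
  intro x
  rw [hP, map_sub, map_zsmul, smul_eq_mul, sub_sub_cancel_left]
  exact (hβ.mul_left _).neg_right

include K in
theorem stab_WJ {u : M.Group} (hu : u ∈ WJ hp c c0) : Stab hp n c u := by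
  induction hu using Subgroup.closure_induction with
  | mem r hr' =>
    obtain ⟨β, h1, h2⟩ := hr'
    exact stab_refl hp h2 (AP_JS hp K h1).dvd
  | one => exact Stab.one hp
  | mul a b _ _ ha hb => exact ha.mul hp hb
  | inv a _ ha => exact ha.inv hp

/-- the roots of `Φ_t` -/
noncomputable def SR (D : ChevalleyDatum) (l : ℕ) (n : ℕ) (c : Fin l → ℕ) : Finset (Fin D.nroots) := by
  classical exact Finset.univ.filter fun r => (n : ℤ) ∣ bb c (vec D l r)

theorem mem_SR {r : Fin D.nroots} : r ∈ SR D l n c ↔ (n : ℤ) ∣ bb c (vec D l r) := by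
  unfold SR
  rw [Finset.mem_filter]
  simp

theorem sum_SR {w : M.Group} (hw : Stab hp n c w) (F : (Fin l → ℤ) → ℤ) :
    (∑ r ∈ SR D l n c, F (rep M.toCoxeterSystem hp.isCartan w (vec D l r))) = ∑ r ∈ SR D l n c, F (vec D l r) := by
  obtain ⟨π, hπ⟩ := Cfsg.Agent.H994.KE.exists_perm hp w
  refine Finset.sum_equiv π (fun r => ?_) (fun r _ => by rw [hπ])
  rw [mem_SR, mem_SR, hπ, hw.dvd_iff hp]

include K in
/-- **The stabiliser of a point of the alcove**, first half. -/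
theorem exists_std {v : M.Group} (hv : Stab hp n c v) :
    ∃ u ∈ WJ hp c c0, ∀ a, AP hp n c a → AP hp n c (rep M.toCoxeterSystem hp.isCartan (v * u) a) := by
  have hfin : Finite M.Group := finite_W hp M.toCoxeterSystem
  obtain ⟨⟨u, hu⟩, hmax⟩ := Finite.exists_max fun u : ↥(WJ hp c c0) => ∑ r ∈ SR D l n c,
    Lam D l n c (vec D l r) * Lam D l n c (rep M.toCoxeterSystem hp.isCartan (v * u) (vec D l r))
  have hst : Stab hp n c (v * u) := hv.mul hp (stab_WJ hp K hu)
  refine ⟨u, hu, fun a ha => ?_⟩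
  have hra : IsRoot M.toCoxeterSystem hp.isCartan (rep M.toCoxeterSystem hp.isCartan (v * u) a) := ha.1.act _
  have hda : (n : ℤ) ∣ bb c (rep M.toCoxeterSystem hp.isCartan (v * u) a) := (hst.dvd_iff hp a).2 ha.dvd
  refine (lam_pos_iff hp K hra hda).1.1 ?_
  refine pos_of_JS hp K ha ((Lam D l n c).comp (rep M.toCoxeterSystem hp.isCartan (v * u)).toAddMonoidHom) fun β hβ => ?_
  show 0 < Lam D l n c (rep M.toCoxeterSystem hp.isCartan (v * u) β)
  have hAP := AP_JS hp K hβ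
  obtain ⟨r, hrβ⟩ := exists_isRefl hp hAP.1
  obtain ⟨P, hP2, hP⟩ := refl_form hp hrβ
  have hstr := stab_refl hp hrβ hAP.dvd
  have hrW : r ∈ WJ hp c c0 := Subgroup.subset_closure ⟨β, hβ, hrβ⟩
  have h1 := hmax ⟨u * r, (WJ hp c c0).mul_mem hu hrW⟩
  set X := Lam D l n c (rep M.toCoxeterSystem hp.isCartan (v * u) β) with hX
  set T := ∑ s ∈ SR D l n c, Lam D l n c (vec D l s) * P (vec D l s) with hT
  have e1 : (∑ s ∈ SR D l n c, Lam D l n c (vec D l s) *
      Lam D l n c (rep M.toCoxeterSystem hp.isCartan (v * (u * r)) (vec D l s))) =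
      (∑ s ∈ SR D l n c, Lam D l n c (vec D l s) * Lam D l n c (rep M.toCoxeterSystem hp.isCartan (v * u) (vec D l s))) -
        X * T := by
    rw [hT, Finset.mul_sum, ← Finset.sum_sub_distrib]
    refine Finset.sum_congr rfl fun s _ => ?_
    rw [← mul_assoc, rep_mul_apply, hP, map_sub, map_zsmul, map_sub, map_zsmul, smul_eq_mul, ← hX]
    ring
  have e2 : 2 * T = Lam D l n c β * ∑ s ∈ SR D l n c, P (vec D l s) ^ 2 := by
    have h2 := sum_SR hp hstr fun x => Lam D l n c x * P x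
    have h3 : (∑ s ∈ SR D l n c, Lam D l n c (rep M.toCoxeterSystem hp.isCartan r (vec D l s)) *
        P (rep M.toCoxeterSystem hp.isCartan r (vec D l s))) =
        Lam D l n c β * (∑ s ∈ SR D l n c, P (vec D l s) ^ 2) - T := by
      rw [hT, Finset.mul_sum, ← Finset.sum_sub_distrib]
      refine Finset.sum_congr rfl fun s _ => ?_
      rw [hP, map_sub, map_zsmul, map_sub, map_zsmul, hP2, smul_eq_mul, smul_eq_mul]
      ring
    have h4 : (∑ s ∈ SR D l n c, Lam D l n c (rep M.toCoxeterSystem hp.isCartan r (vec D l s)) *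
        P (rep M.toCoxeterSystem hp.isCartan r (vec D l s))) = T := h2
    linarith
  have h5 : 0 < Lam D l n c β := (lam_pos_iff hp K hAP.1 hAP.dvd).1.2 hAP
  have h6 : 0 < ∑ s ∈ SR D l n c, P (vec D l s) ^ 2 := by
    obtain ⟨s, hs, e⟩ := (isRoot_iff hp M.toCoxeterSystem β).1 hAP.1
    have hd := hAP.dvd
    rw [← e] at hd
    refine Finset.sum_pos' (fun i _ => sq_nonneg _) ⟨⟨s, hs⟩, mem_SR.2 hd, ?_⟩
    show 0 < P (vec D l s) ^ 2
    rw [e, hP2]
    norm_num
  have h7 : 0 < T := by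
    have := mul_pos h5 h6
    omega
  have h8 : 0 ≤ X := by
    rw [e1] at h1
    have h9 : 0 ≤ X * T := by linarith
    by_contra hcon
    push Not at hcon
    have := mul_neg_of_neg_of_pos hcon h7
    omega
  have h9 := (lam_pos_iff hp K (hAP.1.act (v * u)) ((hst.dvd_iff hp β).2 hAP.dvd)).2
  exact lt_of_le_of_ne h8 (Ne.symm h9)

end Cfsg.Agent.H384.KC
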